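import Groth.Agent.CliffCurveLib.GG
import Groth.Agent.AmpleEmb.SectionsGe

/-!
# From subschemes to reduced closed subsets
-/

set_option autoImplicit false
set_option backward.isDefEq.respectTransparency false
set_option backward.isDefEq.respectTransparency.types false
set_option linter.style.haveILetI false

universe u

open CategoryTheory CategoryTheory.Limits AlgebraicGeometry TopologicalSpace Opposite
open Groth.Agent.PullbackMod Groth.Agent.DCohLib Groth.Agent.CurveLib Groth.Agent.H1ZeroLib
open scoped TensorProduct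

noncomputable section

namespace Groth.Agent.CliffCurveLib

variable {X : Scheme.{u}}

theorem connectedSpace_vI {U : Closeds X} (hU : _root_.IsConnected (U : Set X)) :
    ConnectedSpace (vI U).subscheme := by
  refine connectedSpace_iff_univ.2 ?_
  have h := hU
  rw [← Scheme.IdealSheafData.coe_support_vanishingIdeal U, ← Scheme.IdealSheafData.range_subschemeι,
    ← Set.image_univ] at h
  exact ⟨Set.image_nonempty.1 h.1, (vI U).subschemeι.isEmbedding.isInducing.isPreconnected_image.1 h.2⟩

theorem dim_vI (U : Closeds X) : topologicalKrullDim (vI U).subscheme = topologicalKrullDim (U : Set X) := by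
  rw [IsHomeomorph.topologicalKrullDim_eq _ (vI U).subschemeι.isEmbedding.toHomeomorph.isHomeomorph,
    Scheme.IdealSheafData.range_subschemeι, Scheme.IdealSheafData.coe_support_vanishingIdeal]

theorem eq_one_of_le {a : WithBot ℕ∞} (h1 : a ≤ 1) (h0 : ¬ a ≤ 0) : a = 1 := by
  induction a using WithBot.recBotCoe with
  | bot => exact absurd bot_le h0
  | coe a =>
    induction a using ENat.recTopCoe with
    | top => exact absurd h1 (by decide)
    | coe m =>
      have h2 : m ≤ 1 := by exact_mod_cast h1
      have h3 : m ≠ 0 := fun h => h0 (by subst h; rfl)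
      obtain rfl : m = 1 := by omega
      rfl

theorem dim_vI_eq_one (hdim : topologicalKrullDim X ≤ 1) {U : Closeds X}
    (h : ¬ topologicalKrullDim (U : Set X) ≤ 0) : topologicalKrullDim (vI U).subscheme = 1 :=
  eq_one_of_le ((vI U).subschemeι.isEmbedding.isInducing.topologicalKrullDim_le.trans hdim) (by rwa [dim_vI])

variable {k : Type u} [Field k] [X.Over (Spec (CommRingCat.of k))] [IsProper (X ↘ Spec (CommRingCat.of k))]
variable {L : X.Modules}

theorem gS_eq (U : Closeds X) :
    gS k U = @Curv2.genus k _ (vI U).subscheme ⟨(vI U).subschemeι ≫ (X ↘ Spec (CommRingCat.of k))⟩ := by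
  letI : (vI U).subscheme.Over (Spec (CommRingCat.of k)) := ⟨(vI U).subschemeι ≫ (X ↘ Spec (CommRingCat.of k))⟩
  haveI : Coh.IsQCoh (Coh.structureModule (vI U).subscheme) := CohBase.isQCoh_structureModule
  exact IntLib.finrank_push k (vI U).subschemeι rfl (Coh.structureModule (vI U).subscheme) 1

theorem deg_vI_eq (hL : PicF.IsInvertible L) (U : Closeds X) :
    @Curv2.deg k _ (vI U).subscheme ⟨(vI U).subschemeι ≫ (X ↘ Spec (CommRingCat.of k))⟩
      ((Scheme.Modules.pullback (vI U).subschemeι).obj L) 1 =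
    Curv2.euler k X (LJ (vI U) L) - Curv2.euler k X (ClSub.quotMod (vI U)) := by
  haveI := EulerIneqLib.isNoetherian_proper (X := X) k
  letI : (vI U).subscheme.Over (Spec (CommRingCat.of k)) := ⟨(vI U).subschemeι ≫ (X ↘ Spec (CommRingCat.of k))⟩
  haveI : IsLocallyNoetherian (vI U).subscheme := LocallyOfFiniteType.isLocallyNoetherian (vI U).subschemeι
  haveI : Coh.IsQCoh (Coh.structureModule (vI U).subscheme) := CohBase.isQCoh_structureModule
  haveI := (CurveLib.isCoh_of_isInvertible (AmpleLib.isInvertible_pullback (vI U).subschemeι hL)).1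
  rw [CurveLib.euler_iso (K := k) (ljIso L U), IntLib.euler_push k (vI U).subschemeι rfl _]
  show _ = _ - Curv2.euler k X ((Scheme.Modules.pushforward (vI U).subschemeι).obj (Coh.structureModule _))
  rw [IntLib.euler_push k (vI U).subschemeι rfl _]
  unfold Curv2.deg
  simp

theorem vI_top [IsReduced X] : vI (⊤ : Closeds X) = ⊥ := by
  show Scheme.IdealSheafData.vanishingIdeal _ = _
  rw [Scheme.IdealSheafData.vanishingIdeal_top, Scheme.nilradical_eq_bot]

theorem isIso_toSubscheme_bot : IsIso (ClSub.toSubscheme (⊥ : X.IdealSheafData)) :=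
  (isIso_iff_stalk _).2 fun y => by
    refine ⟨(injective_iff_map_eq_zero _).2 fun a ha => ?_,
      (epi_iff_stalk _).1 (HilbObsLib.epi_toSubscheme _) y⟩
    obtain ⟨r, rfl⟩ := (ParaFLib.bijective_oneG y).2 a
    have h0 : qv (⊥ : X.IdealSheafData) y r = 0 := ha
    rw [qv_eq_zero_iff] at h0
    have hb : IntMult.stalkIdeal (⊥ : X.IdealSheafData) y = ⊥ := by simp [IntMult.stalkIdeal]
    rw [hb] at h0
    show r • ParaFLib.oneG y = 0
    rw [Ideal.mem_bot.1 h0, zero_smul]

/-- The trivial twist. -/
def ljBot (L : X.Modules) : LJ (⊥ : X.IdealSheafData) L ≅ L :=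
  haveI := isIso_toSubscheme_bot (X := X)
  (((DCoh.tensorBi (X := X)).mapIso (asIso (ClSub.toSubscheme (⊥ : X.IdealSheafData)))).app L).symm ≪≫ tmodUnit L

theorem globallyGenerated_of_degLarge [IsReduced X] [ConnectedSpace X] (hdim : topologicalKrullDim X ≤ 1)
    (hL : PicF.IsInvertible L) (hdeg : DegLarge k L) : Curv2.IsGloballyGenerated L := by
  haveI := EulerIneqLib.isNoetherian_proper (X := X) k
  refine AmpleEmb.isGloballyGenerated_of_genLocus hL (ι := Coh.structureModule X ⟶ L) id fun y => ?_
  obtain ⟨x, hxy, hx⟩ := IsClosed.exists_closed_singleton (isClosed_closure (s := ({y} : Set X)))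
    ⟨y, subset_closure rfl⟩
  obtain ⟨σ, hσ⟩ := exists_gen_at hdim hL hdeg hx ⊤ (by rw [Closeds.coe_top]; exact isConnected_univ) trivial
  have key : ∀ (J : X.IdealSheafData) (σ : Coh.structureModule X ⟶ LJ J L), Function.Surjective (stalkLin σ x) →
      J = ⊥ → ∃ τ : Coh.structureModule X ⟶ L, Function.Surjective (stalkLin τ x) := by
    rintro J σ hσ rfl
    exact ⟨σ ≫ (ljBot L).hom, by
      rw [stalkLin_comp, LinearMap.coe_comp]
      exact ((isIso_iff_stalk (ljBot L).hom).1 inferInstance x).2.comp hσ⟩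
  obtain ⟨τ, hτ⟩ := key _ σ hσ vI_top
  refine ⟨τ, ?_⟩
  have hxm : x ∈ CohB1.genLocus L τ := by
    rw [AmpleLib.mem_genLocus_iff hL]
    obtain ⟨e, he⟩ := ParaFLib.exists_stalk_gen hL x
    obtain ⟨a, ha⟩ := he.2 (L.presheaf.germ ⊤ x trivial (AmpleLib.sec τ))
    dsimp only at ha
    rw [← ha]
    refine (AmpleLib.bijective_smul_iff he a).2 ?_
    obtain ⟨w, hw⟩ := hτ e
    obtain ⟨c, rfl⟩ := (ParaFLib.bijective_oneG x).2 w
    have h1 : stalkLin τ x (ParaFLib.oneG x) = a • e := (stalkLin_germ τ (U := ⊤) x trivial _).trans ha.symm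
    rw [map_smul, h1, smul_smul] at hw
    exact IsUnit.of_mul_eq_one c (by rw [mul_comm]; exact he.1 (hw.trans (one_smul _ e).symm))
  exact (specializes_iff_mem_closure.2 hxy).mem_open (CohB1.genLocus L τ).isOpen hxm

end Groth.Agent.CliffCurveLib
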