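import Groth.Agent.CliffCurveLib.Clifford
import Groth.Agent.CurveLib.Components

/-!
# Dimensions of spaces of sections on reduced closed subsets
-/

set_option autoImplicit false
set_option backward.isDefEq.respectTransparency false
set_option backward.isDefEq.respectTransparency.types false
set_option linter.style.haveILetI false

universe u

open CategoryTheory CategoryTheory.Limits AlgebraicGeometry TopologicalSpace Opposite
open Groth.Agent.PullbackMod Groth.Agent.DCohLib Groth.Agent.CurveLib Groth.Agent.H1ZeroLib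
open scoped TensorProduct

noncomputable section

namespace Groth.Agent.CliffCurveLib

variable {X : Scheme.{u}} {k : Type u} [Field k] [X.Over (Spec (CommRingCat.of k))]
  [IsProper (X ↘ Spec (CommRingCat.of k))]

variable {L : X.Modules} {S T : Closeds X}

variable (k) in
/-- The genus of a reduced closed subset. -/
abbrev gS (S : Closeds X) : ℕ := Module.finrank k (Coh.HH X (ClSub.quotMod (vI S)) 1)

include k in
/-- If no section survives, all sections lie in the kernel. -/
theorem h0_le_kernel {M N : X.Modules} (φ : M ⟶ N) (hφ : ∀ y, Function.Surjective (stalkLin φ y))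
    (hM : Coh.IsCoh M) (hN : Coh.IsCoh N) (h : ∀ σ : Coh.structureModule X ⟶ M, σ ≫ φ = 0) :
    Module.finrank k (Coh.HH X M 0) ≤ Module.finrank k (Coh.HH X (kernel φ) 0) := by
  haveI := EulerIneqLib.isNoetherian_proper (X := X) k
  haveI := EulerIneqLib.finite_HH (k := k) (QCohLib.isCoh_kernel_cokernel φ hM hN).1 0
  refine LinearMap.finrank_le_finrank_of_surjective (f := hMap (k := k) (kerSeq φ).f 0) fun c => ?_
  have hc : c ∈ LinearMap.ker (hMap (k := k) (kerSeq φ).g 0) := by
    refine LinearMap.mem_ker.2 ((secOf N).injective ?_)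
    rw [map_zero]
    refine (secOf_hMap (k := k) φ c).trans ?_
    rw [← AmpleLib.sec_secHom (secOf M c)]
    exact congrArg AmpleLib.sec (h (DCohLib.secHom M (secOf M c)))
  rwa [← range_hMap_f (kerSeq_shortExact φ hφ)] at hc

include k in
theorem h0_le_add_kernel {M N : X.Modules} (φ : M ⟶ N) (hφ : ∀ y, Function.Surjective (stalkLin φ y))
    (hM : Coh.IsCoh M) (hN : Coh.IsCoh N) :
    Module.finrank k (Coh.HH X M 0) ≤
      Module.finrank k (Coh.HH X (kernel φ) 0) + Module.finrank k (Coh.HH X N 0) := by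
  haveI := EulerIneqLib.isNoetherian_proper (X := X) k
  exact (EulerIneqLib.ineqs (k := k) (kerSeq φ) (kerSeq_shortExact φ hφ)
    (QCohLib.isCoh_kernel_cokernel φ hM hN).1 hM hN).2.2 0

include k in
theorem h0_le_of_mono {M N : X.Modules} (φ : M ⟶ N) [Mono φ] (hN : Coh.IsCoh N) :
    Module.finrank k (Coh.HH X M 0) ≤ Module.finrank k (Coh.HH X N 0) := by
  haveI := EulerIneqLib.isNoetherian_proper (X := X) k
  haveI := EulerIneqLib.finite_HH (k := k) hN 0
  exact LinearMap.finrank_le_finrank_of_injective (f := hMap (k := k) (DevLib.cokerSeq φ).f 0)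
    (hMap_f_zero_injective (DevLib.cokerSeq_shortExact φ))

theorem finrank_NS_of_disjoint (hL : PicF.IsInvertible L) {B : X.IdealSheafData}
    (h : ∀ y ∈ S, y ∉ B.support) :
    Module.finrank k (Coh.HH X (NS S B L) 0) = Module.finrank k (Coh.HH X (LJ (vI S) L) 0) := by
  let ι := kernel.ι (qmapL (le_sup_left : vI S ≤ vI S ⊔ B) L)
  haveI : IsIso ι := (isIso_iff_stalk ι).2 fun y => ⟨(mono_iff_stalk ι).1 inferInstance y, fun z => by
    obtain ⟨e, he⟩ := ParaFLib.exists_stalk_gen hL y
    obtain ⟨r, rfl⟩ := tq_surjective he (vI S) z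
    refine exists_preimage he ?_
    rw [stalkIdeal_sup]
    by_cases hy : y ∈ S
    · rw [IdealMulLib.stalkIdeal_eq_top B (h y hy), sup_top_eq]; trivial
    · rw [stalkIdeal_vI_top hy, top_sup_eq]; trivial⟩
  exact (LinearEquiv.ofBijective _ (hMap_bijective_iso (k := k) (asIso ι) 0)).finrank_eq

include k in
theorem h0_quotMod_pos (hne : (S : Set X).Nonempty) :
    0 < Module.finrank k (Coh.HH X (ClSub.quotMod (vI S)) 0) := by
  haveI := EulerIneqLib.isNoetherian_proper (X := X) k
  haveI := EulerIneqLib.finite_HH (k := k) (IntLib.isCoh_quotMod (vI S)) 0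
  haveI : Nonempty (⊤ : (vI S).subscheme.Opens) := by
    obtain ⟨y, hy⟩ := hne
    obtain ⟨w, -⟩ : y ∈ Set.range (vI S).subschemeι := by
      rw [Scheme.IdealSheafData.range_subschemeι]; exact mem_support_vI.2 hy
    exact ⟨⟨w, trivial⟩⟩
  haveI : Nontrivial Γ(ClSub.quotMod (vI S), ⊤) := inferInstanceAs (Nontrivial Γ((vI S).subscheme, ⊤))
  haveI : Nontrivial (Coh.HH X (ClSub.quotMod (vI S)) 0) := (secOf (ClSub.quotMod (vI S))).toEquiv.nontrivial
  exact Module.finrank_pos

variable (k) in
/-- The hypothesis on degrees. -/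
def DegLarge (L : X.Modules) : Prop :=
  ∀ U : Closeds X, _root_.IsConnected (U : Set X) → ¬ topologicalKrullDim (U : Set X) ≤ 0 →
    2 * (gS k U : ℤ) ≤ Curv2.euler k X (LJ (vI U) L) - Curv2.euler k X (ClSub.quotMod (vI U))

include k in
/-- Riemann–Roch: there are more sections than the genus. -/
theorem genus_lt_h0 (hdim : topologicalKrullDim X ≤ 1) (hdeg : DegLarge k L) {U : Closeds X}
    (hU : _root_.IsConnected (U : Set X)) (hd : ¬ topologicalKrullDim (U : Set X) ≤ 0) :
    gS k U < Module.finrank k (Coh.HH X (LJ (vI U) L) 0) := by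
  have h := hdeg U hU hd
  rw [euler_eq_sub (k := k) hdim, euler_eq_sub (k := k) hdim] at h
  have h1 := h0_quotMod_pos (k := k) hU.1
  unfold gS at h ⊢
  omega

/-- The ideal of a closed point. -/
theorem stalkIdeal_point {x : X} (hx : IsClosed ({x} : Set X)) :
    IntMult.stalkIdeal (vI ⟨{x}, hx⟩) x = IsLocalRing.maximalIdeal (X.presheaf.stalk x) ∧
    ∀ y, y ≠ x → IntMult.stalkIdeal (vI ⟨{x}, hx⟩) y = ⊤ := by
  let J := vI (⟨{x}, hx⟩ : Closeds X)
  have hsupp : (J.support : Set X) = {x} := by
    rw [Scheme.IdealSheafData.coe_support_vanishingIdeal]; rfl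
  refine ⟨?_, fun y hy => stalkIdeal_vI_top hy⟩
  haveI : IsIntegral J.subscheme := CurveLib.isIntegral_vanishingIdeal hx isIrreducible_singleton
  have hall : ∀ z : J.subscheme, J.subschemeι z = x := fun z => by
    have : J.subschemeι z ∈ Set.range J.subschemeι := ⟨z, rfl⟩
    rwa [Scheme.IdealSheafData.range_subschemeι, hsupp] at this
  have hz := hall (genericPoint J.subscheme)
  show IntMult.stalkIdeal J x = _
  rw [← hz, ← IdealStalkLib.ker_stalkMap_subschemeι J (genericPoint J.subscheme)]
  refine IsLocalRing.eq_maximalIdeal ?_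
  exact RingHom.ker_isMaximal_of_surjective (K := J.subscheme.functionField) _
    (J.subschemeι.stalkMap_surjective (genericPoint J.subscheme))

/-- Every section vanishes in the fibre at `x` unless one generates there. -/
theorem comp_qmapL_point (hL : PicF.IsInvertible L) {x : X} (hx : IsClosed ({x} : Set X)) (hxS : x ∈ S)
    {σ : Coh.structureModule X ⟶ LJ (vI S) L} (hσ : ¬ Function.Surjective (stalkLin σ x)) :
    σ ≫ qmapL (le_sup_left : vI S ≤ vI S ⊔ vI ⟨{x}, hx⟩) L = 0 := by
  refine hom_ext_stalk fun y => LinearMap.ext fun z => ?_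
  obtain ⟨a, rfl⟩ := (ParaFLib.bijective_oneG y).2 z
  obtain ⟨e, he⟩ := ParaFLib.exists_stalk_gen hL y
  obtain ⟨r, hr⟩ := tq_surjective he (vI S) (stalkLin σ y (ParaFLib.oneG y))
  have h0 : tq (vI S ⊔ vI ⟨{x}, hx⟩) y e r = 0 := by
    rw [tq_eq_zero_iff he, stalkIdeal_sup]
    refine Submodule.mem_sup_right ?_
    by_cases hyx : y = x
    · subst hyx
      rw [(stalkIdeal_point hx).1]
      exact fun hu => hσ ((surjective_iff_isUnitL he (mem_support_vI.2 hxS) σ hr.symm).2 hu)
    · rw [(stalkIdeal_point hx).2 y hyx]; trivial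
  rw [map_smul, map_smul, stalkLin_comp, LinearMap.comp_apply, ← hr, stalk_qmapL, h0, DevLib.stalkLin_zero,
    LinearMap.zero_apply]

include k in
/-- Sections lift when the kernel has no `H¹`. -/
theorem exists_surjective_of_qmap (hL : PicF.IsInvertible L) {B : X.IdealSheafData}
    (h : Subsingleton (Coh.HH X (NS S B L) 1)) {x : X} (hx : x ∈ S) (hxB : x ∈ B.support)
    (τ : Coh.structureModule X ⟶ LJ (vI S ⊔ B) L) (hτ : Function.Surjective (stalkLin τ x)) :
    ∃ σ : Coh.structureModule X ⟶ LJ (vI S) L, Function.Surjective (stalkLin σ x) := by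
  obtain ⟨σ, hσ⟩ := @exists_lift k _ X _ _ _ (qmapL (le_sup_left : vI S ≤ vI S ⊔ B) L) (fun y => by
    obtain ⟨e, he⟩ := ParaFLib.exists_stalk_gen hL y
    exact surjective_qmapL he le_sup_left) h τ
  refine ⟨σ, surjective_of_qmapL hL le_sup_left ?_ σ (hσ ▸ hτ)⟩
  rw [Scheme.IdealSheafData.support_sup]
  exact ⟨mem_support_vI.2 hx, hxB⟩

end Groth.Agent.CliffCurveLib
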