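import Groth.Agent.H1ZeroLib.Main
import Groth.Agent.IntLib.Push
import Groth.Agent.CurveLib.DegTensor

/-!
# Submodules of a twist on a reduced closed subset

`NS S B L` is the submodule of `O_S ⊗ L` of sections vanishing on the subscheme cut out by `B`.
-/

set_option autoImplicit false
set_option backward.isDefEq.respectTransparency false
set_option backward.isDefEq.respectTransparency.types false
set_option linter.style.haveILetI false

universe u

open CategoryTheory CategoryTheory.Limits AlgebraicGeometry TopologicalSpace Opposite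
open Groth.Agent.PullbackMod Groth.Agent.DCohLib Groth.Agent.CurveLib Groth.Agent.H1ZeroLib
open scoped TensorProduct

noncomputable section

namespace Groth.Agent.CliffCurveLib

variable {X : Scheme.{u}}

/-- The reduced ideal of a closed subset. -/
abbrev vI (S : Closeds X) : X.IdealSheafData := Scheme.IdealSheafData.vanishingIdeal S

theorem vI_mono {S T : Closeds X} (h : T ≤ S) : vI S ≤ vI T := Scheme.IdealSheafData.vanishingIdeal_antimono h

theorem mem_support_vI {S : Closeds X} {y : X} : y ∈ (vI S).support ↔ y ∈ S := by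
  rw [support_vanishingIdeal']

theorem stalkIdeal_vI_top {S : Closeds X} {y : X} (h : y ∉ S) : IntMult.stalkIdeal (vI S) y = ⊤ :=
  IdealMulLib.stalkIdeal_eq_top _ (fun hy => h (mem_support_vI.1 hy))

/-- The ideals of `T ⊆ S` agree away from the closure of `S ∖ T`. -/
theorem stalkIdeal_vI_le {S T : Closeds X} {y : X} (hy : y ∉ closure ((S : Set X) \ T)) :
    IntMult.stalkIdeal (vI T) y ≤ IntMult.stalkIdeal (vI S) y := by
  let C : Closeds X := ⟨closure ((S : Set X) \ T), isClosed_closure⟩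
  have hle : S ≤ T ⊔ C := fun z hz => by
    by_cases hzT : z ∈ T
    · exact Or.inl hzT
    · exact Or.inr (subset_closure ⟨hz, hzT⟩)
  refine le_trans (le_inf le_rfl ?_) ((stalkIdeal_inf (vI T) (vI C) y).ge.trans
    (stalkIdeal_mono (by rw [← Scheme.IdealSheafData.vanishingIdeal_sup]; exact vI_mono hle) y))
  rw [stalkIdeal_vI_top (S := C) hy]
  exact le_top

/-- The sections of `O_S ⊗ L` vanishing on `B`. -/
abbrev NS (S : Closeds X) (B : X.IdealSheafData) (L : X.Modules) : X.Modules :=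
  kernel (qmapL (le_sup_left : vI S ≤ vI S ⊔ B) L)

variable {L : X.Modules} {S T : Closeds X} {B : X.IdealSheafData}

theorem exists_coef {y : X} {e : L.presheaf.stalk y} (he : Function.Bijective fun r : X.presheaf.stalk y => r • e)
    (w : (NS S B L).presheaf.stalk y) : ∃ r ∈ IntMult.stalkIdeal (vI S ⊔ B) y,
      stalkLin (kernel.ι (qmapL (le_sup_left : vI S ≤ vI S ⊔ B) L)) y w = tq (vI S) y e r := by
  obtain ⟨r, hr⟩ := tq_surjective he (vI S) (stalkLin (kernel.ι (qmapL (le_sup_left : vI S ≤ vI S ⊔ B) L)) y w)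
  refine ⟨r, ?_, hr.symm⟩
  have h := HilbObsLib.stalk_kernel_ι_comp (qmapL (le_sup_left : vI S ≤ vI S ⊔ B) L) y w
  rwa [← hr, stalk_qmapL, tq_eq_zero_iff he] at h

theorem exists_preimage {y : X} {e : L.presheaf.stalk y} (he : Function.Bijective fun r : X.presheaf.stalk y => r • e)
    {r : X.presheaf.stalk y} (hr : r ∈ IntMult.stalkIdeal (vI S ⊔ B) y) :
    ∃ w, stalkLin (kernel.ι (qmapL (le_sup_left : vI S ≤ vI S ⊔ B) L)) y w = tq (vI S) y e r :=
  HilbObsLib.stalk_kernel_ι_exists _ y (by rw [stalk_qmapL, tq_eq_zero_iff he]; exact hr)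

theorem nsMap_aux (hL : PicF.IsInvertible L) (h : T ≤ S) (B : X.IdealSheafData) :
    (kernel.ι (qmapL (le_sup_left : vI S ≤ vI S ⊔ B) L) ≫ qmapL (vI_mono h) L) ≫
      qmapL (le_sup_left : vI T ≤ vI T ⊔ B) L = 0 := by
  refine hom_ext_stalk fun y => LinearMap.ext fun w => ?_
  obtain ⟨e, he⟩ := ParaFLib.exists_stalk_gen hL y
  obtain ⟨r, hr, hw⟩ := exists_coef he w
  rw [stalkLin_comp, LinearMap.comp_apply, stalkLin_comp, LinearMap.comp_apply, hw, stalk_qmapL, stalk_qmapL,
    DevLib.stalkLin_zero, LinearMap.zero_apply, tq_eq_zero_iff he]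
  exact stalkIdeal_mono (sup_le_sup_right (vI_mono h) B) y hr

/-- Restriction to a smaller closed subset. -/
def nsMap (hL : PicF.IsInvertible L) (h : T ≤ S) (B : X.IdealSheafData) : NS S B L ⟶ NS T B L :=
  kernel.lift _ (kernel.ι _ ≫ qmapL (vI_mono h) L) (nsMap_aux hL h B)

theorem nsMap_ι (hL : PicF.IsInvertible L) (h : T ≤ S) (B : X.IdealSheafData) :
    nsMap hL h B ≫ kernel.ι _ = kernel.ι _ ≫ qmapL (vI_mono h) L := kernel.lift_ι _ _ _

theorem surjective_nsMap (hL : PicF.IsInvertible L) (h : T ≤ S) (B : X.IdealSheafData) (y : X) :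
    Function.Surjective (stalkLin (nsMap hL h B) y) := fun v => by
  obtain ⟨e, he⟩ := ParaFLib.exists_stalk_gen hL y
  obtain ⟨r, hr, hv⟩ := exists_coef he v
  rw [stalkIdeal_sup] at hr
  obtain ⟨a, ha, b, hb, rfl⟩ := Submodule.mem_sup.1 hr
  obtain ⟨w, hw⟩ := exists_preimage (S := S) (B := B) he (r := b) (by rw [stalkIdeal_sup]; exact Submodule.mem_sup_right hb)
  refine ⟨w, (mono_iff_stalk (kernel.ι (qmapL (le_sup_left : vI T ≤ vI T ⊔ B) L))).1 inferInstance y ?_⟩
  rw [← LinearMap.comp_apply, ← stalkLin_comp, nsMap_ι, stalkLin_comp, LinearMap.comp_apply, hw, stalk_qmapL, hv,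
    tq_add, (tq_eq_zero_iff he _ a).2 ha, zero_add]

theorem injective_nsMap (hL : PicF.IsInvertible L) (h : T ≤ S) (B : X.IdealSheafData) {y : X}
    (hy : IntMult.stalkIdeal (vI T) y ≤ IntMult.stalkIdeal (vI S) y) :
    Function.Injective (stalkLin (nsMap hL h B) y) := by
  rw [injective_iff_map_eq_zero]
  intro w hw
  obtain ⟨e, he⟩ := ParaFLib.exists_stalk_gen hL y
  obtain ⟨r, -, hr⟩ := exists_coef he w
  refine (mono_iff_stalk (kernel.ι (qmapL (le_sup_left : vI S ≤ vI S ⊔ B) L))).1 inferInstance y ?_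
  rw [hr, map_zero, tq_eq_zero_iff he]
  refine hy ((tq_eq_zero_iff he _ r).1 ?_)
  rw [← stalk_qmapL (vI_mono h), ← hr, ← LinearMap.comp_apply, ← stalkLin_comp, ← nsMap_ι hL h B, stalkLin_comp,
    LinearMap.comp_apply, hw, map_zero]

theorem subsingleton_stalk_NS (hL : PicF.IsInvertible L) {y : X}
    (hy : IntMult.stalkIdeal (vI S ⊔ B) y ≤ IntMult.stalkIdeal (vI S) y) :
    Subsingleton ((NS S B L).presheaf.stalk y) := by
  obtain ⟨e, he⟩ := ParaFLib.exists_stalk_gen hL y
  have key : ∀ w : (NS S B L).presheaf.stalk y, w = 0 := fun w => by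
    obtain ⟨r, hr, hw⟩ := exists_coef he w
    refine (mono_iff_stalk (kernel.ι (qmapL (le_sup_left : vI S ≤ vI S ⊔ B) L))).1 inferInstance y ?_
    rw [hw, map_zero, tq_eq_zero_iff he]
    exact hy hr
  exact ⟨fun a b => by rw [key a, key b]⟩

theorem support_NS (hL : PicF.IsInvertible L) : CohB1.support (NS S B L) ⊆ (S : Set X) := fun y hy => by
  by_contra h
  exact hy (subsingleton_stalk_NS hL (by rw [stalkIdeal_vI_top h]; exact le_top))

theorem killed_LJ (hL : PicF.IsInvertible L) (J : X.IdealSheafData) : Killed J (LJ J L) := fun y r hr n => by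
  obtain ⟨e, he⟩ := ParaFLib.exists_stalk_gen hL y
  obtain ⟨c, rfl⟩ := tq_surjective he J n
  rw [tq_smul, tq_eq_zero_iff he]
  exact Ideal.mul_mem_right _ _ hr

theorem killed_NS (hL : PicF.IsInvertible L) (S : Closeds X) (B : X.IdealSheafData) : Killed (vI S) (NS S B L) :=
  (killed_LJ hL (vI S)).of_mono (kernel.ι _)

theorem isCoh_LJ [IsLocallyNoetherian X] (hL : PicF.IsInvertible L) (J : X.IdealSheafData) : Coh.IsCoh (LJ J L) :=
  isCoh_tmod (IntLib.isCoh_quotMod J) (CurveLib.isCoh_of_isInvertible hL)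

theorem isCoh_NS [IsLocallyNoetherian X] (hL : PicF.IsInvertible L) (S : Closeds X) (B : X.IdealSheafData) :
    Coh.IsCoh (NS S B L) :=
  (QCohLib.isCoh_kernel_cokernel _ (isCoh_LJ hL _) (isCoh_LJ hL _)).1

/-- A module killed by `J`, tensored with `O/J`. -/
def killedIso {J : X.IdealSheafData} {N : X.Modules} (h : Killed J N) : tmod (ClSub.quotMod J) N ≅ N :=
  haveI := isIso_mulS_toSubscheme h
  tmodComm _ _ ≪≫ (asIso (mulS N (ClSub.toSubscheme J))).symm ≪≫ tensorStructureIso N

/-- `O_S ⊗ L` on the reduced subscheme. -/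
def ljIso (L : X.Modules) (S : Closeds X) :
    LJ (vI S) L ≅ (Scheme.Modules.pushforward (vI S).subschemeι).obj ((Scheme.Modules.pullback (vI S).subschemeι).obj L) :=
  projIso (vI S).subschemeι (Coh.structureModule (vI S).subscheme) L ≪≫
    (Scheme.Modules.pushforward (vI S).subschemeι).mapIso (tmodUnit ((Scheme.Modules.pullback (vI S).subschemeι).obj L))

/-- The section on the reduced subscheme. -/
def subSec (σ : Coh.structureModule X ⟶ LJ (vI S) L) : Γ((Scheme.Modules.pullback (vI S).subschemeι).obj L, ⊤) :=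
  AmpleLib.sec (L := (Scheme.Modules.pushforward (vI S).subschemeι).obj ((Scheme.Modules.pullback (vI S).subschemeι).obj L))
    (σ ≫ (ljIso L S).hom)

theorem surjective_iff_mem_genLocus (hL : PicF.IsInvertible L) (σ : Coh.structureModule X ⟶ LJ (vI S) L)
    (w : (vI S).subscheme) :
    Function.Surjective (stalkLin σ ((vI S).subschemeι w)) ↔
      w ∈ CohB1.genLocus _ (DCohLib.secHom _ (subSec σ)) := by
  set i := (vI S).subschemeι
  set M := (Scheme.Modules.pullback i).obj L
  have hM : PicF.IsInvertible M := AmpleLib.isInvertible_pullback _ hL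
  rw [AmpleLib.mem_genLocus_iff hM, AmpleLib.sec_secHom]
  set t := M.presheaf.germ ⊤ w trivial (subSec σ)
  have hb := bijective_pushStalk i M w
  have hθ := (isIso_iff_stalk (ljIso L S).hom).1 inferInstance (i w)
  have hone : pushStalk i M w (stalkLin (σ ≫ (ljIso L S).hom) (i w) (ParaFLib.oneG (i w))) = t := by
    refine (congrArg _ (stalkLin_germ (σ ≫ (ljIso L S).hom) (U := ⊤) (i w) trivial _)).trans ?_
    exact pushStalk_germ i M w (W := ⊤) trivial _
  have hcomp : ∀ c : X.presheaf.stalk (i w),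
      pushStalk i M w (stalkLin (σ ≫ (ljIso L S).hom) (i w) (c • ParaFLib.oneG (i w))) = i.stalkMap w c • t := fun c => by
    rw [map_smul, pushStalk_smul, hone]
  constructor
  · intro h
    obtain ⟨e, he⟩ := ParaFLib.exists_stalk_gen hM w
    obtain ⟨r, hr⟩ := he.2 t
    dsimp only at hr
    rw [← hr]
    refine (AmpleLib.bijective_smul_iff he r).2 ?_
    obtain ⟨v, hv⟩ : ∃ v, stalkLin (σ ≫ (ljIso L S).hom) (i w) v = (hb.2 e).choose := by
      rw [stalkLin_comp]
      exact (hθ.2.comp h) _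
    obtain ⟨c, rfl⟩ := (ParaFLib.bijective_oneG (i w)).2 v
    have h1 := hcomp c
    rw [hv, (hb.2 e).choose_spec, ← hr, smul_smul] at h1
    exact IsUnit.of_mul_eq_one (i.stalkMap w c) (by
      rw [mul_comm]
      exact he.1 ((one_smul _ e).trans h1).symm)
  · intro h z
    obtain ⟨r, hr⟩ := h.2 (pushStalk i M w (stalkLin (ljIso L S).hom (i w) z))
    obtain ⟨c, rfl⟩ := i.stalkMap_surjective w r
    refine ⟨c • ParaFLib.oneG (i w), hθ.1 (hb.1 ?_)⟩
    rw [← LinearMap.comp_apply, ← stalkLin_comp, hcomp, ← hr]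

theorem isClosed_nongen (hL : PicF.IsInvertible L) (σ : Coh.structureModule X ⟶ LJ (vI S) L) :
    IsClosed {y : X | y ∈ S ∧ ¬ Function.Surjective (stalkLin σ y)} := by
  have e : {y : X | y ∈ S ∧ ¬ Function.Surjective (stalkLin σ y)} =
      (vI S).subschemeι '' ((CohB1.genLocus _ (DCohLib.secHom _ (subSec σ)) : Set (vI S).subscheme)ᶜ) := by
    ext y
    constructor
    · rintro ⟨hy, hn⟩
      obtain ⟨w, rfl⟩ : ∃ w, (vI S).subschemeι w = y := by
        rw [← Set.mem_range, Scheme.IdealSheafData.range_subschemeι]; exact mem_support_vI.2 hy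
      exact ⟨w, fun hw => hn ((surjective_iff_mem_genLocus hL σ w).2 hw), rfl⟩
    · rintro ⟨w, hw, rfl⟩
      refine ⟨mem_support_vI.1 ?_, fun h => hw ((surjective_iff_mem_genLocus hL σ w).1 h)⟩
      rw [← SetLike.mem_coe, ← Scheme.IdealSheafData.range_subschemeι]
      exact ⟨w, rfl⟩
  rw [e]
  exact (vI S).subschemeι.isClosedEmbedding.isClosedMap _ (CohB1.genLocus _ _).2.isClosed_compl

/-- On a reduced subscheme a section generating nowhere is zero. -/
theorem eq_zero_of_nowhere_gen (hL : PicF.IsInvertible L) (σ : Coh.structureModule X ⟶ LJ (vI S) L)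
    (h : ∀ y ∈ S, ¬ Function.Surjective (stalkLin σ y)) : σ = 0 := by
  haveI : IsReduced (vI S).subscheme := DVRCrit.isReduced_vanishingIdeal S
  set M := (Scheme.Modules.pullback (vI S).subschemeι).obj L
  have hM : PicF.IsInvertible M := AmpleLib.isInvertible_pullback _ hL
  have hτ : subSec σ = 0 := by
    refine TopCat.Presheaf.section_ext (⟨M.presheaf, M.isSheaf⟩ : TopCat.Sheaf Ab (vI S).subscheme) ⊤ _ _ fun w _ => ?_
    show M.presheaf.germ ⊤ w trivial (subSec σ) = M.presheaf.germ ⊤ w trivial 0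
    rw [map_zero]
    obtain ⟨W, e, hwW, he⟩ := ParaFLib.exists_gen_nhd hM w
    obtain ⟨a, ha⟩ := (he W le_rfl).2 (AmpleLib.resT (subSec σ) W)
    simp only [ParaFLib.res_self] at ha
    have hb := AmpleLib.genLocus_inf_eq_basicOpen (DCohLib.secHom M (subSec σ)) he (a := a)
      (by rw [AmpleLib.sec_secHom]; exact ha)
    have hbot : (vI S).subscheme.basicOpen a = ⊥ := by
      refine eq_bot_iff.2 fun z hz => ?_
      have hz' := (hb.ge hz).1
      refine (h ((vI S).subschemeι z) (mem_support_vI.1 ?_) ((surjective_iff_mem_genLocus hL σ z).2 hz')).elim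
      rw [← SetLike.mem_coe, ← Scheme.IdealSheafData.range_subschemeι]
      exact ⟨z, rfl⟩
    rw [basicOpen_eq_bot_iff] at hbot
    rw [hbot, zero_smul] at ha
    rw [← TopCat.Presheaf.germ_res_apply M.presheaf (homOfLE (le_top : W ≤ ⊤)) w hwW, ← AmpleLib.resT, ← ha, map_zero]
  have h1 : σ ≫ (ljIso L S).hom = 0 := DCohLib.hom_unit_ext (hτ.trans rfl)
  rw [← cancel_mono (ljIso L S).hom, h1, zero_comp]

end Groth.Agent.CliffCurveLib
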