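import Groth.Agent.CliffCurveLib.Global

/-!
# A subcurve of small degree when `H¹(I ⊗ L)` is nonzero
-/

set_option autoImplicit false
set_option backward.isDefEq.respectTransparency false
set_option backward.isDefEq.respectTransparency.types false
set_option linter.style.haveILetI false

universe u

open CategoryTheory CategoryTheory.Limits AlgebraicGeometry TopologicalSpace Opposite
open Groth.Agent.PullbackMod Groth.Agent.DCohLib Groth.Agent.CurveLib Groth.Agent.H1ZeroLib
open scoped TensorProduct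

noncomputable section

namespace Groth.Agent.CliffCurveLib

variable {X : Scheme.{u}} {L : X.Modules}

theorem stalkIdeal_bot' (y : X) : IntMult.stalkIdeal (⊥ : X.IdealSheafData) y = ⊥ := by
  simp [IntMult.stalkIdeal]

/-- `I ⊗ L` is the kernel of `L ⟶ O_Z ⊗ L`. -/
theorem exists_iso_NS_top [IsReduced X] (hL : PicF.IsInvertible L) (Z : X.IdealSheafData) :
    Nonempty (tmod (ClSub.idealMod Z) L ≅ NS (⊤ : Closeds X) Z L) := by
  let J := vI (⊤ : Closeds X)
  let f : ClSub.idealMod Z ⟶ ClSub.quotMod J := ClSub.idealModι Z ≫ ClSub.toSubscheme J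
  have hf0 : f ≫ qmap (le_sup_left : J ≤ J ⊔ Z) = 0 := by
    show (ClSub.idealModι Z ≫ ClSub.toSubscheme J) ≫ _ = 0
    rw [Category.assoc, toSubscheme_qmap, ← toSubscheme_qmap (le_sup_right : Z ≤ J ⊔ Z), ← Category.assoc,
      ClSub.idealModι, kernel.condition, zero_comp]
  have hψ : tmap f L ≫ qmapL (le_sup_left : J ≤ J ⊔ Z) L = 0 := by
    rw [qmapL, ← tmap_comp', hf0, tmap_zero']
  let φ : tmod (ClSub.idealMod Z) L ⟶ NS (⊤ : Closeds X) Z L := kernel.lift _ (tmap f L) hψ
  haveI : Mono f := (mono_iff_stalk f).2 fun y => (injective_iff_map_eq_zero _).2 fun v hv => by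
    obtain ⟨r, hr⟩ := (ParaFLib.bijective_oneG y).2 (stalkLin (ClSub.idealModι Z) y v)
    dsimp only at hr
    refine (mono_iff_stalk (ClSub.idealModι Z)).1 (by unfold ClSub.idealModι; infer_instance) y ?_
    have h0 : qv J y r = 0 := by
      refine Eq.trans ?_ hv
      show qv J y r = stalkLin (ClSub.idealModι Z ≫ ClSub.toSubscheme J) y v
      rw [stalkLin_comp, LinearMap.comp_apply, ← hr]
      rfl
    rw [qv_eq_zero_iff, show J = ⊥ from vI_top, stalkIdeal_bot'] at h0
    rw [← hr, Ideal.mem_bot.1 h0, zero_smul, map_zero]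
  haveI := mono_tmap f (E := L) (freeAt_one_of_isInvertible hL)
  haveI : IsIso φ := (isIso_iff_stalk φ).2 fun y => by
    refine ⟨fun a b h => (mono_iff_stalk (tmap f L)).1 inferInstance y ?_, fun w => ?_⟩
    · have e : φ ≫ kernel.ι _ = tmap f L := kernel.lift_ι _ _ _
      rw [← e, stalkLin_comp, LinearMap.comp_apply, LinearMap.comp_apply, h]
    · obtain ⟨e, he⟩ := ParaFLib.exists_stalk_gen hL y
      obtain ⟨r, hr, hw⟩ := exists_coef he w
      rw [stalkIdeal_sup, show vI (⊤ : Closeds X) = ⊥ from vI_top, stalkIdeal_bot', bot_sup_eq] at hr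
      obtain ⟨v, hv⟩ := HilbObsLib.stalk_kernel_ι_exists (ClSub.toSubscheme Z) y
        (x := r • ParaFLib.oneG y) ((qv_eq_zero_iff Z y r).2 hr)
      refine ⟨stalkTensor y _ _ (v ⊗ₜ[X.presheaf.stalk y] e),
        (mono_iff_stalk (kernel.ι (qmapL (le_sup_left : J ≤ J ⊔ Z) L))).1 inferInstance y ?_⟩
      rw [hw, ← LinearMap.comp_apply, ← stalkLin_comp, kernel.lift_ι, stalkTensor_natural_left,
        LinearMap.rTensor_tmul, tq]
      refine congrArg _ (congrArg (fun u => u ⊗ₜ[X.presheaf.stalk y] e) ?_)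
      show stalkLin (ClSub.idealModι Z ≫ ClSub.toSubscheme J) y v = qv J y r
      rw [stalkLin_comp, LinearMap.comp_apply]
      exact congrArg (stalkLin (ClSub.toSubscheme J) y) hv
  exact ⟨asIso φ⟩

variable {k : Type u} [Field k] [X.Over (Spec (CommRingCat.of k))] [IsProper (X ↘ Spec (CommRingCat.of k))]

/-- Twisting does not change the length of a finite module. -/
theorem euler_LJ_finite (hL : PicF.IsInvertible L) (Q : X.IdealSheafData)
    (hQ : topologicalKrullDim (Q.support : Set X) ≤ 0) :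
    Curv2.euler k X (LJ Q L) = Module.finrank k (Coh.HH X (ClSub.quotMod Q) 0) := by
  haveI := EulerIneqLib.isNoetherian_proper (X := X) k
  have hC := Q.support.isClosed
  rw [euler_eq_mul (k := k) (IntLib.isCoh_quotMod Q) (isCoh_LJ hL Q) hC (IntLib.support_quotMod_subset Q) hQ 1
    fun y => ?_, euler_of_dim_le_zero (k := k) hC (IntLib.support_quotMod_subset Q) hQ]
  · simp
  obtain ⟨e, he⟩ := ParaFLib.exists_stalk_gen hL y
  exact ⟨(stalkTensor y _ _).symm ≪≫ₗ
    LinearEquiv.lTensor _ (LinearEquiv.ofBijective (LinearMap.toSpanSingleton _ _ e) he).symm ≪≫ₗ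
    TensorProduct.rid _ _ ≪≫ₗ (LinearEquiv.funUnique (Fin 1) _ _).symm⟩

theorem exists_subcurve [IsReduced X] (hdim : topologicalKrullDim X ≤ 1) (hL : PicF.IsInvertible L)
    (Z : X.IdealSheafData) (hZ : topologicalKrullDim (Z.support : Set X) ≤ 0)
    (h1 : Nontrivial (Coh.HH X (tmod (ClSub.idealMod Z) L) 1)) :
    ∃ Y : Closeds X, _root_.IsConnected (Y : Set X) ∧ ¬ topologicalKrullDim (Y : Set X) ≤ 0 ∧
      Curv2.euler k X (LJ (vI Y) L) - Curv2.euler k X (ClSub.quotMod (vI Y)) ≤
        -2 * Curv2.euler k X (ClSub.quotMod (vI Y)) +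
          Module.finrank k (Coh.HH X (ClSub.quotMod (Z ⊔ vI Y)) 0) := by
  haveI := EulerIneqLib.isNoetherian_proper (X := X) k
  obtain ⟨i⟩ := exists_iso_NS_top hL Z
  haveI := h1
  obtain ⟨Y, -, hY⟩ := exists_isMin (k := k) (S := (⊤ : Closeds X)) (B := Z) (L := L)
    (Equiv.ofBijective _ (hMap_bijective_iso (k := k) i 1)).symm.nontrivial
  refine ⟨Y, hY.isConnected (k := k) hdim hL, hY.dim_eq_one (k := k) hdim hL, ?_⟩
  have hg := hY.h0_le_genus (k := k) hdim hL
  have ho := hY.h0O_le_h1 (k := k) hdim hL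
  have hse := euler_shortExact (K := k) (kerSeq_shortExact (qmapL (le_sup_left : vI Y ≤ vI Y ⊔ Z) L) fun y => by
    obtain ⟨e, he⟩ := ParaFLib.exists_stalk_gen hL y
    exact surjective_qmapL he le_sup_left) (isCoh_NS hL Y Z) (isCoh_LJ hL _) (isCoh_LJ hL _)
  change Curv2.euler k X (LJ (vI Y) L) = Curv2.euler k X (NS Y Z L) + Curv2.euler k X (LJ (vI Y ⊔ Z) L) at hse
  rw [euler_LJ_finite hL (vI Y ⊔ Z) (dim_mono (by
    rw [Scheme.IdealSheafData.support_sup]
    exact fun z hz => hz.2) hZ), sup_comm (vI Y) Z, euler_eq_sub (k := k) (M := NS Y Z L) hdim] at hse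
  have hO := euler_eq_sub (k := k) (M := ClSub.quotMod (vI Y)) hdim
  omega

end Groth.Agent.CliffCurveLib
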