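import Groth.Agent.CliffCurveLib.Basic

/-!
# A Clifford bound for minimal closed subsets carrying `H¹`
-/

set_option autoImplicit false
set_option backward.isDefEq.respectTransparency false
set_option backward.isDefEq.respectTransparency.types false
set_option linter.style.haveILetI false

universe u

open CategoryTheory CategoryTheory.Limits AlgebraicGeometry TopologicalSpace Opposite
open Groth.Agent.PullbackMod Groth.Agent.DCohLib Groth.Agent.CurveLib Groth.Agent.H1ZeroLib
open scoped TensorProduct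

noncomputable section

namespace Groth.Agent.CliffCurveLib

variable {X : Scheme.{u}}

/-- The intersection with the closure of the difference is finite. -/
theorem dim_inter_closure_diff [NoetherianSpace X] (hdim : topologicalKrullDim X ≤ 1) (S T : Closeds X) :
    topologicalKrullDim ((T : Set X) ∩ closure ((S : Set X) \ T) : Set X) ≤ 0 := by
  classical
  obtain ⟨F, hF, hFirr, hS⟩ := NoetherianSpace.exists_finite_set_closeds_irreducible S
  let F' : Set (Closeds X) := {Z ∈ F | ¬ (Z : Set X) ⊆ T}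
  have hF' : F'.Finite := hF.subset fun Z hZ => hZ.1
  have hmem : ∀ y, y ∈ S → ∃ Z ∈ F, y ∈ Z := fun y hy => by
    have hSset : (S : Set X) = ⋃ Z ∈ F, (Z : Set X) := by
      rw [hS]
      have hcl : IsClosed (⋃ Z ∈ F, (Z : Set X)) := hF.isClosed_biUnion fun Z _ => Z.isClosed
      refine le_antisymm ?_ (Set.iUnion₂_subset fun Z hZ => SetLike.coe_subset_coe.2 (le_sSup hZ))
      have h1 : sSup F ≤ (⟨_, hcl⟩ : Closeds X) := sSup_le fun Z hZ z hz => Set.mem_biUnion hZ hz
      exact h1
    obtain ⟨Z, hZ, hyZ⟩ := Set.mem_iUnion₂.1 (hSset.le hy)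
    exact ⟨Z, hZ, hyZ⟩
  have hsub : closure ((S : Set X) \ T) ⊆ ⋃ Z ∈ F', (Z : Set X) :=
    closure_minimal (fun y hy => by
      obtain ⟨Z, hZ, hyZ⟩ := hmem y hy.1
      exact Set.mem_biUnion (show Z ∈ F' from ⟨hZ, fun h => hy.2 (h hyZ)⟩) hyZ)
      (hF'.isClosed_biUnion fun Z _ => Z.isClosed)
  refine Order.krullDim_nonpos_iff_forall_isMax.2 fun Z Z' hle => ?_
  by_contra hne
  let ι : IrreducibleCloseds ((T : Set X) ∩ closure ((S : Set X) \ T) : Set X) → IrreducibleCloseds X :=
    IrreducibleCloseds.map _ continuous_subtype_val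
  have hι : StrictMono ι := IrreducibleCloseds.map_strictMono_of_isInducing Topology.IsInducing.subtypeVal
  have hlt : ι Z < ι Z' := hι (lt_of_le_not_ge hle hne)
  have hZ' : ((ι Z' : IrreducibleCloseds X) : Set X) ⊆ (T : Set X) ∩ closure ((S : Set X) \ T) :=
    closure_minimal (by rintro _ ⟨x, -, rfl⟩; exact x.2) (T.isClosed.inter isClosed_closure)
  obtain ⟨W, hW, hWsub⟩ : ∃ W ∈ F', ((ι Z' : IrreducibleCloseds X) : Set X) ⊆ W := by
    obtain ⟨t, ht, hsubt⟩ := isIrreducible_iff_sUnion_isClosed.1 (ι Z').isIrreducible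
      (hF'.toFinset.image (SetLike.coe : Closeds X → Set X))
      (fun z hz => by obtain ⟨Z, -, rfl⟩ := Finset.mem_image.1 hz; exact Z.isClosed)
      (fun y hy => by
        obtain ⟨Z, hZ, hyZ⟩ := Set.mem_iUnion₂.1 (hsub (hZ' hy).2)
        exact ⟨Z, Finset.mem_image.2 ⟨Z, hF'.mem_toFinset.2 hZ, rfl⟩, hyZ⟩)
    obtain ⟨Z, hZ, rfl⟩ := Finset.mem_image.1 ht
    exact ⟨Z, hF'.mem_toFinset.1 hZ, hsubt⟩
  let Wi : IrreducibleCloseds X := ⟨W, hFirr W hW.1, W.isClosed⟩
  have hlt' : ι Z' < Wi := SetLike.coe_ssubset_coe.1 ⟨hWsub, fun h => hW.2 (h.trans (hZ'.trans Set.inter_subset_left))⟩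
  let p : LTSeries (IrreducibleCloseds X) :=
    LTSeries.mk 2 ![ι Z, ι Z', Wi] (Fin.strictMono_iff_lt_succ.2 fun i => by fin_cases i <;> simpa)
  exact absurd ((Order.LTSeries.length_le_krullDim p).trans hdim) (by show ¬((2 : ℕ) : WithBot ℕ∞) ≤ 1; decide)

variable {k : Type u} [Field k] [X.Over (Spec (CommRingCat.of k))] [IsProper (X ↘ Spec (CommRingCat.of k))]
  (hdim : topologicalKrullDim X ≤ 1)

include k in
/-- Cohomology in positive degree of a finitely supported module vanishes. -/
theorem subsingleton_H1_of_support {M : X.Modules} {C : Set X} (hC : IsClosed C) (hd : topologicalKrullDim C ≤ 0)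
    (h : CohB1.support M ⊆ C) : Subsingleton (Coh.HH X M 1) := by
  haveI := EulerIneqLib.isNoetherian_proper (X := X) k
  exact subsingleton_HH_of_support M hC h (d := 0) hd one_pos

include k in
/-- Vanishing passes through a map that is bijective outside a finite set. -/
theorem subsingleton_H1_of_injective_off {A B : X.Modules} (π : A ⟶ B) (hπ : ∀ y, Function.Surjective (stalkLin π y))
    (hB : Subsingleton (Coh.HH X B 1)) {C : Set X} (hC : IsClosed C) (hd : topologicalKrullDim C ≤ 0)
    (h : ∀ y, y ∉ C → Function.Injective (stalkLin π y)) : Subsingleton (Coh.HH X A 1) := by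
  have hK : Subsingleton (Coh.HH X (kernel π) 1) := by
    refine subsingleton_H1_of_support (k := k) hC hd fun y hy => ?_
    by_contra hyC
    refine hy ⟨fun a b => (mono_iff_stalk (kernel.ι π)).1 inferInstance y (h y hyC ?_)⟩
    rw [HilbObsLib.stalk_kernel_ι_comp π y a, HilbObsLib.stalk_kernel_ι_comp π y b]
  exact @subsingleton_mid X (kerSeq π) (kerSeq_shortExact π hπ) 1 hK hB

include k hdim in
/-- Surjectivity on `H¹` from a quotient without `H¹`. -/
theorem hMap_one_surjective' {A B B' : X.Modules} (f : A ⟶ B) (π : B ⟶ B')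
    (hπ : ∀ y, Function.Surjective (stalkLin π y)) (hfπ : f ≫ π = 0) (hB : Subsingleton (Coh.HH X B' 1))
    {C : Set X} (hC : IsClosed C) (hd : topologicalKrullDim C ≤ 0)
    (h : ∀ y, y ∉ C → Function.Surjective (stalkLin f y) ∨ Function.Injective (stalkLin π y)) :
    Function.Surjective (hMap (k := k) f 1) := by
  let ι := Abelian.image.ι f
  have hιπ : ι ≫ π = 0 := by
    haveI : Epi (Abelian.factorThruImage f) := inferInstance
    rw [← cancel_epi (Abelian.factorThruImage f), ← Category.assoc, Abelian.image.fac, hfπ, comp_zero]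
  let δ : cokernel ι ⟶ B' := cokernel.desc ι π hιπ
  have hT : Subsingleton (Coh.HH X (cokernel ι) 1) := by
    refine subsingleton_H1_of_injective_off (k := k) δ (fun y z => ?_) hB hC hd fun y hy => ?_
    · obtain ⟨b, rfl⟩ := hπ y z
      exact ⟨stalkLin (cokernel.π ι) y b, by rw [← LinearMap.comp_apply, ← stalkLin_comp, cokernel.π_desc]⟩
    rcases h y hy with hf | hi
    · have hι : Function.Surjective (stalkLin ι y) := fun z => by
        obtain ⟨w, rfl⟩ := hf z
        exact ⟨stalkLin (Abelian.factorThruImage f) y w, by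
          rw [← LinearMap.comp_apply, ← stalkLin_comp, Abelian.image.fac]⟩
      haveI : Subsingleton ((cokernel ι).presheaf.stalk y) := DevLib.subsingleton_coker ι hι
      exact Function.injective_of_subsingleton _
    · intro a b hab
      obtain ⟨a, rfl⟩ := DevLib.coker_surjective ι y a
      obtain ⟨b, rfl⟩ := DevLib.coker_surjective ι y b
      rw [← LinearMap.comp_apply, ← LinearMap.comp_apply, ← stalkLin_comp, cokernel.π_desc] at hab
      rw [hi hab]
  intro z
  have hz : z ∈ LinearMap.ker (hMap (k := k) (DevLib.cokerSeq ι).g 1) :=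
    LinearMap.mem_ker.2 (Subsingleton.elim (α := Coh.HH X (cokernel ι) 1) _ _)
  rw [← range_hMap_f (DevLib.cokerSeq_shortExact ι)] at hz
  obtain ⟨w, rfl⟩ := hz
  obtain ⟨v, rfl⟩ := hMap_one_surjective (k := k) hdim (Abelian.factorThruImage f) isClosed_empty
    (topologicalKrullDim_zero_of_discreteTopology (∅ : Set X)) (fun y _ => (epi_iff_stalk _).1 inferInstance y) w
  refine ⟨v, ?_⟩
  show Sheaf.H.map _ 1 v = Sheaf.H.map _ 1 (Sheaf.H.map _ 1 v)
  rw [← Sheaf.H.map_comp_apply, ← Functor.map_comp]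
  exact congrArg (fun g => Sheaf.H.map ((QCohLib.toAbF X).map g) 1 v) (Abelian.image.fac f).symm

/-- `S` is minimal among closed subsets with `H¹(NS · B L) ≠ 0`. -/
structure IsMin (S : Closeds X) (B : X.IdealSheafData) (L : X.Modules) : Prop where
  nontrivial : Nontrivial (Coh.HH X (NS S B L) 1)
  minimal : ∀ T < S, Subsingleton (Coh.HH X (NS T B L) 1)

variable {L : X.Modules} {S : Closeds X} {B : X.IdealSheafData}

include k in
theorem exists_isMin (h : Nontrivial (Coh.HH X (NS S B L) 1)) : ∃ T ≤ S, IsMin T B L := by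
  haveI := EulerIneqLib.isNoetherian_proper (X := X) k
  induction S using (WellFoundedLT.induction (α := Closeds X)) with
  | _ S ih =>
  by_cases hmin : ∀ T < S, Subsingleton (Coh.HH X (NS T B L) 1)
  · exact ⟨S, le_rfl, h, hmin⟩
  push Not at hmin
  obtain ⟨T, hT, hT'⟩ := hmin
  obtain ⟨U, hU, hU'⟩ := ih T hT hT'
  exact ⟨U, hU.trans hT.le, hU'⟩

namespace IsMin

variable (hS : IsMin S B L) (hL : PicF.IsInvertible L)

include hS in
theorem nonempty_of (h : (S : Set X) = ∅ → Subsingleton (Coh.HH X (NS S B L) 1)) : (S : Set X).Nonempty :=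
  Set.nonempty_iff_ne_empty.2 fun e => not_subsingleton_iff_nontrivial.2 hS.nontrivial (h e)

include k hdim hS hL in
theorem dim_eq_one : ¬ topologicalKrullDim (S : Set X) ≤ 0 := fun h =>
  not_subsingleton_iff_nontrivial.2 hS.nontrivial
    (subsingleton_H1_of_support (k := k) S.isClosed h (support_NS hL))

include k hdim hS hL in
/-- A closed subset outside which nothing remains must be everything. -/
theorem eq_of_finite_diff {T : Closeds X} (hT : T ≤ S)
    (h : ∀ y, y ∉ (T : Set X) ∩ closure ((S : Set X) \ T) → y ∉ T → IntMult.stalkIdeal (vI S ⊔ B) y ≤ IntMult.stalkIdeal (vI S) y) :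
    T = S := by
  haveI := EulerIneqLib.isNoetherian_proper (X := X) k
  by_contra hne
  refine not_subsingleton_iff_nontrivial.2 hS.nontrivial ?_
  refine subsingleton_H1_of_injective_off (k := k) (nsMap hL hT B) (surjective_nsMap hL hT B)
    (hS.minimal T (lt_of_le_of_ne hT hne)) (T.isClosed.inter isClosed_closure)
    (dim_inter_closure_diff hdim S T) fun y hy => ?_
  by_cases hyT : y ∈ T
  · exact injective_nsMap hL hT B (stalkIdeal_vI_le fun hc => hy ⟨hyT, hc⟩)
  · haveI := subsingleton_stalk_NS (S := S) (B := B) hL (h y hy hyT)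
    exact Function.injective_of_subsingleton _

include k hdim hS hL in
theorem isConnected : _root_.IsConnected (S : Set X) := by
  haveI := EulerIneqLib.isNoetherian_proper (X := X) k
  have hne : (S : Set X).Nonempty := Set.nonempty_iff_ne_empty.2 fun e =>
    dim_eq_one (k := k) hdim hS hL (by
      rw [e]
      exact topologicalKrullDim_zero_of_discreteTopology (∅ : Set X))
  refine ⟨hne, ?_⟩
  rw [isPreconnected_closed_iff]
  intro t t' ht ht' hcov h1 h2
  by_contra hdis
  rw [Set.not_nonempty_iff_eq_empty] at hdis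
  let A : Closeds X := S ⊓ ⟨t, ht⟩
  let A' : Closeds X := S ⊓ ⟨t', ht'⟩
  have hd : ∀ y, y ∈ A → y ∈ A' → False := fun y h h' =>
    Set.eq_empty_iff_forall_notMem.1 hdis y ⟨h.1, h.2, h'.2⟩
  have hcases : ∀ y ∈ S, y ∈ A ∨ y ∈ A' := fun y hy => (hcov hy).imp (fun h => ⟨hy, h⟩) fun h => ⟨hy, h⟩
  have hlt : ∀ (C D : Closeds X), C ≤ S → (∀ y, y ∈ C → y ∈ D → False) → (∃ y, y ∈ D ∧ y ∈ S) → C < S :=
    fun C D hC hCD ⟨y, hyD, hyS⟩ => lt_of_le_of_ne hC fun e => hCD y (e ▸ hyS) hyD
  have hA : A < S := hlt A A' inf_le_left hd (by obtain ⟨y, hy, hy'⟩ := h2; exact ⟨y, ⟨hy, hy'⟩, hy⟩)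
  have hA' : A' < S := hlt A' A inf_le_left (fun y h h' => hd y h' h) (by
    obtain ⟨y, hy, hy'⟩ := h1; exact ⟨y, ⟨hy, hy'⟩, hy⟩)
  have hnc : ∀ (C D : Closeds X), (∀ y ∈ S, y ∈ C ∨ y ∈ D) → (∀ y, y ∈ C → y ∈ D → False) → ∀ y ∈ C,
      y ∉ closure ((S : Set X) \ C) := fun C D hcd hCD y hy hc =>
    hCD y hy (closure_minimal (fun z hz => (hcd z hz.1).resolve_left hz.2) D.isClosed hc)
  -- the kernel of the restriction to `A` lives on `A'`
  let π := nsMap hL hA.le B
  have hK : Subsingleton (Coh.HH X (kernel π) 1) := by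
    let φ : kernel π ⟶ NS A' B L := kernel.ι π ≫ nsMap hL hA'.le B
    have hbij : ∀ y, Function.Bijective (stalkLin φ y) := fun y => by
      by_cases hyA : y ∈ A
      · haveI : Subsingleton ((NS A' B L).presheaf.stalk y) :=
          DevLib.subsingleton_of_notMem fun h => hd y hyA (support_NS hL h)
        haveI : Subsingleton ((kernel π).presheaf.stalk y) := ⟨fun a b => (mono_iff_stalk (kernel.ι π)).1 inferInstance y
          (injective_nsMap hL hA.le B (stalkIdeal_vI_le (hnc A A' hcases hd y hyA))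
            (by rw [HilbObsLib.stalk_kernel_ι_comp π y a, HilbObsLib.stalk_kernel_ι_comp π y b]))⟩
        exact ⟨Function.injective_of_subsingleton _, Function.surjective_to_subsingleton _⟩
      · haveI : Subsingleton ((NS A B L).presheaf.stalk y) :=
          DevLib.subsingleton_of_notMem fun h => hyA (support_NS hL h)
        have hι : Function.Bijective (stalkLin (kernel.ι π) y) :=
          ⟨(mono_iff_stalk (kernel.ι π)).1 inferInstance y, fun z =>
            HilbObsLib.stalk_kernel_ι_exists π y (Subsingleton.elim _ _)⟩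
        rw [stalkLin_comp, LinearMap.coe_comp]
        refine Function.Bijective.comp ⟨injective_nsMap hL hA'.le B ?_, surjective_nsMap hL hA'.le B y⟩ hι
        refine stalkIdeal_vI_le fun hc => ?_
        exact hyA (closure_minimal (fun z hz => (hcases z hz.1).resolve_right hz.2) A.isClosed hc)
    exact subsingleton_H1_of_injective_off (k := k) φ (fun y => (hbij y).2) (hS.minimal A' hA') isClosed_empty
      (topologicalKrullDim_zero_of_discreteTopology (∅ : Set X)) fun y _ => (hbij y).1
  exact not_subsingleton_iff_nontrivial.2 hS.nontrivial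
    (@subsingleton_mid X (kerSeq π) (kerSeq_shortExact π (surjective_nsMap hL hA.le B)) 1 hK (hS.minimal A hA))

include k hdim hS hL in
/-- The Clifford bound. -/
theorem h0_le_genus :
    Module.finrank k (Coh.HH X (NS S B L) 0) ≤ Module.finrank k (Coh.HH X (ClSub.quotMod (vI S)) 1) := by
  haveI := EulerIneqLib.isNoetherian_proper (X := X) k
  let Q := ClSub.quotMod (vI S)
  let N := NS S B L
  haveI := EulerIneqLib.finite_HH (k := k) (IntLib.isCoh_quotMod (vI S)) 1
  have e₀ := hMap_bijective_iso (k := k) (tensorStructureIso Q) 1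
  haveI : Module.Finite k (Coh.HH X (tmod Q (Coh.structureModule X)) 1) :=
    Module.Finite.equiv (LinearEquiv.ofBijective _ e₀).symm
  haveI := hS.nontrivial
  haveI : Nontrivial (Coh.HH X (tmod Q N) 1) :=
    (Equiv.ofBijective _ (hMap_bijective_iso (k := k) (killedIso (killed_NS hL S B)) 1)).nontrivial
  refine (SingRRLib.finrank_le_of_bilin k (mulH (k := k) Q N 1) fun c hc => ?_).trans
    (LinearEquiv.ofBijective _ e₀).finrank_eq.le
  rw [mulH_apply]
  set σ := DCohLib.secHom N (secOf N c)
  have hσ : σ ≠ 0 := secHom_secOf_ne_zero N hc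
  let ι := kernel.ι (qmapL (le_sup_left : vI S ≤ vI S ⊔ B) L)
  let T : Closeds X := ⟨_, isClosed_nongen hL (σ ≫ ι)⟩
  have hTS : T < S := lt_of_le_of_ne (fun y hy => hy.1) fun e => hσ (by
    rw [← cancel_mono ι, zero_comp]
    exact eq_zero_of_nowhere_gen hL _ fun y hy => (show y ∈ T by rw [e]; exact hy).2)
  have h0 : σ ≫ nsMap hL hTS.le B = 0 := by
    rw [← cancel_mono (kernel.ι (qmapL (le_sup_left : vI T ≤ vI T ⊔ B) L)), Category.assoc, nsMap_ι, zero_comp,
      ← Category.assoc]
    refine eq_zero_of_nowhere_gen hL _ fun y hy hsurj => hy.2 ?_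
    exact surjective_of_qmapL hL (vI_mono hTS.le) (mem_support_vI.2 hy) _ hsurj
  let π : tmod Q N ⟶ tmod Q (NS T B L) := ((DCoh.tensorBi (X := X)).obj Q).map (nsMap hL hTS.le B)
  have hkill : Killed (vI S) (NS T B L) := fun y r hr n =>
    killed_NS hL T B y r (stalkIdeal_mono (vI_mono hTS.le) y hr) n
  have hB' : Subsingleton (Coh.HH X (tmod Q (NS T B L)) 1) :=
    @ProjCoh.subsingleton_of_iso _ _ _ (killedIso hkill).symm 1 (hS.minimal T hTS)
  refine hMap_one_surjective' (k := k) hdim (mulS Q σ) π (fun y z => ?_) ?_ hB'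
    (T.isClosed.inter isClosed_closure) (dim_inter_closure_diff hdim S T) fun y hy => ?_
  · obtain ⟨z, rfl⟩ := (stalkTensor y Q (NS T B L)).surjective z
    obtain ⟨w, rfl⟩ := LinearMap.lTensor_surjective (Q.presheaf.stalk y) (surjective_nsMap hL hTS.le B y) z
    exact ⟨stalkTensor y _ _ w, stalkTensor_natural_right y _ w⟩
  · rw [← Functor.map_comp, h0]
    refine hom_ext_stalk fun y => LinearMap.ext fun z => ?_
    obtain ⟨z, rfl⟩ := (stalkTensor y Q (Coh.structureModule X)).surjective z
    rw [stalkTensor_natural_right, DevLib.stalkLin_zero, DevLib.stalkLin_zero, LinearMap.lTensor_zero]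
    simp
  by_cases hyT : y ∈ T
  · refine Or.inr ?_
    have hbij : Function.Bijective (stalkLin (nsMap hL hTS.le B) y) :=
      ⟨injective_nsMap hL hTS.le B (stalkIdeal_vI_le fun hcl => hy ⟨hyT, hcl⟩), surjective_nsMap hL hTS.le B y⟩
    intro a b hab
    obtain ⟨a, rfl⟩ := (stalkTensor y Q N).surjective a
    obtain ⟨b, rfl⟩ := (stalkTensor y Q N).surjective b
    rw [stalkTensor_natural_right, stalkTensor_natural_right] at hab
    exact congrArg _ (((LinearEquiv.ofBijective _ hbij).lTensor (Q.presheaf.stalk y)).injective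
      ((stalkTensor y Q _).injective hab))
  · refine Or.inl fun z => ?_
    have hsurj : Function.Surjective (stalkLin σ y) := by
      by_cases hyS : y ∈ S
      · intro v
        obtain ⟨w, hw⟩ := (not_not.1 fun h => hyT ⟨hyS, h⟩ : Function.Surjective (stalkLin (σ ≫ ι) y)) (stalkLin ι y v)
        rw [stalkLin_comp, LinearMap.comp_apply] at hw
        exact ⟨w, (mono_iff_stalk ι).1 inferInstance y hw⟩
      · haveI : Subsingleton (N.presheaf.stalk y) := DevLib.subsingleton_of_notMem fun h => hyS (support_NS hL h)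
        exact Function.surjective_to_subsingleton _
    obtain ⟨z, rfl⟩ := (stalkTensor y Q N).surjective z
    obtain ⟨w, rfl⟩ := LinearMap.lTensor_surjective (Q.presheaf.stalk y) hsurj z
    exact ⟨stalkTensor y _ _ w, stalkTensor_natural_right y _ w⟩

include k hdim hS hL in
/-- The functions inject into `H¹`. -/
theorem h0O_le_h1 :
    Module.finrank k (Coh.HH X (ClSub.quotMod (vI S)) 0) ≤ Module.finrank k (Coh.HH X (NS S B L) 1) := by
  haveI := EulerIneqLib.isNoetherian_proper (X := X) k
  let J := vI S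
  let N := NS S B L
  haveI := hS.nontrivial
  haveI := EulerIneqLib.finite_HH (k := k) (isCoh_NS hL S B) 1
  have hF := fieldLike_vanishingIdeal (k := k) S (isConnected (k := k) hdim hS hL)
  let e1 : Coh.HH X N 1 ≃ₗ[k] Coh.HH X (tmod N (Coh.structureModule X)) 1 :=
    LinearEquiv.ofBijective _ (hMap_bijective_iso (k := k) (tensorStructureIso N).symm 1)
  haveI := isIso_mulS_toSubscheme (killed_NS hL S B)
  let e2 : Coh.HH X (tmod N (ClSub.quotMod J)) 1 ≃ₗ[k] Coh.HH X N 1 :=
    LinearEquiv.ofBijective _ (hMap_bijective_iso (k := k)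
      ((asIso (mulS N (ClSub.toSubscheme J))).symm ≪≫ tensorStructureIso N) 1)
  obtain ⟨w, hw⟩ := exists_ne (0 : Coh.HH X N 1)
  let f : Coh.HH X (ClSub.quotMod J) 0 →ₗ[k] Coh.HH X N 1 :=
    e2.toLinearMap ∘ₗ ((mulH (k := k) N (ClSub.quotMod J) 1).flip (e1 w))
  refine LinearMap.finrank_le_finrank_of_injective (f := f) ((injective_iff_map_eq_zero f).2 fun c hc => ?_)
  by_contra hne
  let σ := DCohLib.secHom (ClSub.quotMod J) (secOf _ c)
  have hσ : σ ≠ 0 := secHom_secOf_ne_zero _ hne
  haveI := isIso_mulS_section (killed_NS hL S B) σ fun x _ => hF σ hσ x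
  have hinj : Function.Injective (hMap (k := k) (mulS N σ) 1) :=
    (hMap_bijective_iso (k := k) (asIso (mulS N σ)) 1).1
  have h2 : e2 (hMap (k := k) (mulS N σ) 1 (e1 w)) = 0 := hc
  exact hw (e1.injective (hinj ((e2.injective (h2.trans (map_zero e2).symm)).trans (map_zero _).symm) |>.trans (map_zero e1).symm))

end IsMin

end Groth.Agent.CliffCurveLib
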