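import Groth.Agent.CliffCurveLib.Join

/-!
# Global generation from degrees at least twice the genus
-/

set_option autoImplicit false
set_option backward.isDefEq.respectTransparency false
set_option backward.isDefEq.respectTransparency.types false
set_option linter.style.haveILetI false

universe u

open CategoryTheory CategoryTheory.Limits AlgebraicGeometry TopologicalSpace Opposite
open Groth.Agent.PullbackMod Groth.Agent.DCohLib Groth.Agent.CurveLib Groth.Agent.H1ZeroLib
open scoped TensorProduct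

noncomputable section

namespace Groth.Agent.CliffCurveLib

variable {X : Scheme.{u}} {k : Type u} [Field k] [X.Over (Spec (CommRingCat.of k))]
  [IsProper (X ↘ Spec (CommRingCat.of k))] (hdim : topologicalKrullDim X ≤ 1)

variable {L : X.Modules} (hL : PicF.IsInvertible L) (hdeg : DegLarge k L)

theorem dim_mono {A B : Set X} (h : A ⊆ B) (hB : topologicalKrullDim B ≤ 0) : topologicalKrullDim A ≤ 0 :=
  ((Topology.IsEmbedding.inclusion h).isInducing.topologicalKrullDim_le).trans hB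

theorem mem_sup_iff {U Y : Closeds X} {y : X} : y ∈ U ⊔ Y ↔ y ∈ U ∨ y ∈ Y := Iff.rfl

include hdim in
/-- A component of `S` inside a one-dimensional closed subset. -/
theorem exists_component_le {F : Set (Closeds X)} (hF : F.Finite) (hFirr : ∀ Z ∈ F, IsIrreducible (Z : Set X))
    {S U Y : Closeds X} (hS : S = sSup F) (hYS : Y ≤ S) (hY : ¬ topologicalKrullDim (Y : Set X) ≤ 0)
    (hUY : topologicalKrullDim ((U : Set X) ∩ Y : Set X) ≤ 0) :
    ∃ Z ∈ F, ¬ Z ≤ U ∧ Z ≤ Y := by
  classical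
  rw [topologicalKrullDim, Order.krullDim_nonpos_iff_forall_isMax] at hY
  push Not at hY
  obtain ⟨A, hA⟩ := hY
  rw [not_isMax_iff] at hA
  obtain ⟨B, hAB⟩ := hA
  let ι : IrreducibleCloseds (Y : Set X) → IrreducibleCloseds X := IrreducibleCloseds.map _ continuous_subtype_val
  have hι : StrictMono ι := IrreducibleCloseds.map_strictMono_of_isInducing Topology.IsInducing.subtypeVal
  have hlt : ι A < ι B := hι hAB
  have hBY : ((ι B : IrreducibleCloseds X) : Set X) ⊆ Y :=
    closure_minimal (by rintro _ ⟨x, -, rfl⟩; exact x.2) Y.isClosed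
  have hSset : (S : Set X) ⊆ ⋃ Z ∈ F, (Z : Set X) := by
    rw [hS]
    have hcl : IsClosed (⋃ Z ∈ F, (Z : Set X)) := hF.isClosed_biUnion fun Z _ => Z.isClosed
    have h1 : sSup F ≤ (⟨_, hcl⟩ : Closeds X) := sSup_le fun Z hZ z hz => Set.mem_biUnion hZ hz
    exact h1
  obtain ⟨t, ht, hsub⟩ := isIrreducible_iff_sUnion_isClosed.1 (ι B).isIrreducible
    (hF.toFinset.image (SetLike.coe : Closeds X → Set X))
    (fun z hz => by obtain ⟨Z, -, rfl⟩ := Finset.mem_image.1 hz; exact Z.isClosed)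
    (fun y hy => by
      obtain ⟨Z, hZ, hyZ⟩ := Set.mem_iUnion₂.1 (hSset (hYS (hBY hy)))
      exact ⟨Z, Finset.mem_image.2 ⟨Z, hF.mem_toFinset.2 hZ, rfl⟩, hyZ⟩)
  obtain ⟨Z, hZ, rfl⟩ := Finset.mem_image.1 ht
  rw [hF.mem_toFinset] at hZ
  let Zi : IrreducibleCloseds X := ⟨Z, hFirr Z hZ, Z.isClosed⟩
  have heq : ι B = Zi := by
    by_contra hne
    have hlt' : ι B < Zi := lt_of_le_of_ne (SetLike.coe_subset_coe.1 hsub) hne
    let p : LTSeries (IrreducibleCloseds X) :=
      LTSeries.mk 2 ![ι A, ι B, Zi] (Fin.strictMono_iff_lt_succ.2 fun i => by fin_cases i <;> simpa)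
    exact absurd ((Order.LTSeries.length_le_krullDim p).trans hdim) (by show ¬((2 : ℕ) : WithBot ℕ∞) ≤ 1; decide)
  have hZY : (Z : Set X) ⊆ Y := (congrArg SetLike.coe heq).symm.le.trans hBY
  refine ⟨Z, hZ, fun hZU => ?_, hZY⟩
  -- otherwise `ι B` is a closed point
  obtain ⟨ξ, hξ⟩ := QuasiSober.sober (ι B).isIrreducible (ι B).isClosed
  have hξm : ξ ∈ (U : Set X) ∩ Y := ⟨hZU (hsub hξ.mem), hBY hξ.mem⟩
  have hB : ((ι B : IrreducibleCloseds X) : Set X) = {ξ} := by
    rw [← hξ.def, closure_singleton_eq (U.isClosed.inter Y.isClosed) hUY hξm]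
  refine hlt.ne (SetLike.coe_injective ?_)
  rw [hB]
  refine Set.eq_singleton_iff_nonempty_unique_mem.2 ⟨(ι A).isIrreducible.nonempty, fun z hz => ?_⟩
  exact Set.mem_singleton_iff.1 (hB.le (SetLike.coe_subset_coe.2 hlt.le hz))

include k hdim hdeg hL in
/-- A minimal set for `B` meets the support of `B`. -/
theorem IsMin.meets {Y : Closeds X} {B : X.IdealSheafData} (hY : IsMin Y B L) :
    ∃ y ∈ Y, y ∈ B.support := by
  by_contra h
  push Not at h
  have h1 := hY.h0_le_genus (k := k) hdim hL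
  rw [finrank_NS_of_disjoint hL h] at h1
  exact absurd h1 (genus_lt_h0 hdim hdeg (hY.isConnected (k := k) hdim hL) (hY.dim_eq_one (k := k) hdim hL)).not_ge

include k hdim hdeg hL in
/-- The loop. -/
theorem contradiction_of_bad {x : X} (hx : IsClosed ({x} : Set X)) {S : Closeds X}
    (hS : _root_.IsConnected (S : Set X)) (hxS : x ∈ S)
    (ih : ∀ U < S, _root_.IsConnected (U : Set X) → x ∈ U →
      ∃ σ : Coh.structureModule X ⟶ LJ (vI U) L, Function.Surjective (stalkLin σ x))
    (hno : ∀ σ : Coh.structureModule X ⟶ LJ (vI S) L, ¬ Function.Surjective (stalkLin σ x))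
    {F : Set (Closeds X)} (hF : F.Finite) (hFirr : ∀ Z ∈ F, IsIrreducible (Z : Set X)) (hSF : S = sSup F)
    (n : ℕ) (U : Closeds X) (hn : {Z ∈ F | ¬ Z ≤ U}.ncard = n) (hUS : U ≤ S)
    (hU : _root_.IsConnected (U : Set X)) (hUd : ¬ topologicalKrullDim (U : Set X) ≤ 0) (hxU : x ∈ U)
    (hh : Module.finrank k (Coh.HH X (NS U (vI ⟨{x}, hx⟩) L) 0) ≤ gS k U) : False := by
  haveI := EulerIneqLib.isNoetherian_proper (X := X) k
  induction n using Nat.strong_induction_on generalizing U with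
  | _ n ihn =>
  by_cases hUS' : U = S
  · subst hUS'
    have h1 := h0_le_kernel (k := k) (qmapL (le_sup_left : vI U ≤ vI U ⊔ vI ⟨{x}, hx⟩) L) (fun y => by
      obtain ⟨e, he⟩ := ParaFLib.exists_stalk_gen hL y
      exact surjective_qmapL he le_sup_left) (isCoh_LJ hL _) (isCoh_LJ hL _)
      (fun σ => comp_qmapL_point hL hx hxU (hno σ))
    exact absurd (h1.trans hh) (genus_lt_h0 hdim hdeg hU hUd).not_ge
  rcases subsingleton_or_nontrivial (Coh.HH X (NS S (vI U) L) 1) with h | h
  · obtain ⟨τ, hτ⟩ := ih U (lt_of_le_of_ne hUS hUS') hU hxU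
    have e : vI S ⊔ vI U = vI U := sup_eq_right.2 (vI_mono hUS)
    obtain ⟨σ, hσ⟩ := exists_surjective_of_qmap (k := k) hL h hxS (mem_support_vI.2 hxU)
      (τ ≫ qmapL e.ge L) (by
        intro z
        obtain ⟨eL, he⟩ := ParaFLib.exists_stalk_gen hL x
        obtain ⟨v, rfl⟩ := surjective_qmapL he e.ge z
        obtain ⟨w, rfl⟩ := hτ v
        exact ⟨w, by rw [stalkLin_comp, LinearMap.comp_apply]⟩)
    exact hno σ hσ
  obtain ⟨Y, hYS, hY⟩ := exists_isMin (k := k) h
  have hYc := hY.isConnected (k := k) hdim hL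
  have hYd := hY.dim_eq_one (k := k) hdim hL
  have hYg := hY.h0_le_genus (k := k) hdim hL
  obtain ⟨y, hyY, hyU⟩ := hY.meets hdim hL hdeg
  rw [mem_support_vI] at hyU
  let C : Closeds X := ⟨closure ((Y : Set X) \ U), isClosed_closure⟩
  have hCY : C ≤ Y := closure_minimal Set.sdiff_subset Y.isClosed
  have hC : C = Y := hY.eq_of_finite_diff (k := k) hdim hL hCY fun z _ hz => by
    rw [stalkIdeal_sup]
    exact sup_le le_rfl (stalkIdeal_vI_le hz)
  have hUY : topologicalKrullDim ((U : Set X) ∩ Y : Set X) ≤ 0 := by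
    refine dim_mono ?_ (dim_inter_closure_diff hdim Y U)
    exact fun z hz => ⟨hz.1, hC.ge hz.2⟩
  obtain ⟨Z, hZF, hZU, hZY⟩ := exists_component_le hdim hF hFirr hSF hYS hYd hUY
  have hUle : U ≤ U ⊔ Y := le_sup_left
  refine ihn _ ?_ (U ⊔ Y) rfl (sup_le hUS hYS) ?_ (fun hd => hUd (dim_mono hUle hd)) (hUle hxU) ?_
  · rw [← hn]
    refine Set.ncard_lt_ncard ⟨fun W hW => ⟨hW.1, fun hWU => hW.2 (hWU.trans hUle)⟩, fun hh' => ?_⟩
      (hF.subset fun W hW => hW.1)
    exact (hh' ⟨hZF, hZU⟩).2 (hZY.trans le_sup_right)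
  · rw [Closeds.coe_sup]
    exact hU.union ⟨y, hyU, hyY⟩ hYc
  · have h1 := h0_NS_sup_le (k := k) hL (vI ⟨{x}, hx⟩) (U := U) (Y := Y)
    have h2 := gS_add_le (k := k) hdim hUY
    unfold gS at *
    omega

include k hdim hdeg hL in
/-- Every connected closed subset carries a section generating at a given closed point. -/
theorem exists_gen_at {x : X} (hx : IsClosed ({x} : Set X)) (S : Closeds X)
    (hS : _root_.IsConnected (S : Set X)) (hxS : x ∈ S) :
    ∃ σ : Coh.structureModule X ⟶ LJ (vI S) L, Function.Surjective (stalkLin σ x) := by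
  haveI := EulerIneqLib.isNoetherian_proper (X := X) k
  induction S using (WellFoundedLT.induction (α := Closeds X)) with
  | _ S ih =>
  by_contra hno
  push Not at hno
  let m := vI (⟨{x}, hx⟩ : Closeds X)
  rcases subsingleton_or_nontrivial (Coh.HH X (NS S m L) 1) with h | h
  · obtain ⟨e, he⟩ := ParaFLib.exists_stalk_gen hL x
    have hxm : x ∈ m.support := mem_support_vI.2 rfl
    have hsupp : CohB1.support (LJ (vI S ⊔ m) L) ⊆ {x} := fun y hy => by
      by_contra hyx
      obtain ⟨g, hg⟩ := ParaFLib.exists_stalk_gen hL y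
      refine hy ⟨fun a b => ?_⟩
      have key : ∀ v : (LJ (vI S ⊔ m) L).presheaf.stalk y, v = 0 := fun v => by
        obtain ⟨r, rfl⟩ := tq_surjective hg (vI S ⊔ m) v
        rw [tq_eq_zero_iff hg, stalkIdeal_sup, (stalkIdeal_point hx).2 y hyx, sup_top_eq]
        trivial
      rw [key a, key b]
    obtain ⟨q, hq, -⟩ := exists_global_germ' hx (topologicalKrullDim_zero_of_discreteTopology ({x} : Set X))
      (LJ (vI S ⊔ m) L) hsupp x (tq (vI S ⊔ m) x e 1)
    have hτ : Function.Surjective (stalkLin (DCohLib.secHom _ q) x) :=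
      (surjective_iff_isUnitL he (by rw [Scheme.IdealSheafData.support_sup]; exact ⟨mem_support_vI.2 hxS, hxm⟩) _
        ((CurveLib.stalkLin_secHom q x).trans hq)).2 isUnit_one
    obtain ⟨σ, hσ⟩ := exists_surjective_of_qmap (k := k) hL h hxS hxm _ hτ
    exact hno σ hσ
  obtain ⟨T, hTS, hT⟩ := exists_isMin (k := k) h
  obtain ⟨y, hyT, hym⟩ := hT.meets hdim hL hdeg
  rw [mem_support_vI] at hym
  obtain rfl : y = x := hym
  obtain ⟨F, hF, hFirr, hSF⟩ := NoetherianSpace.exists_finite_set_closeds_irreducible S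
  exact contradiction_of_bad hdim hL hdeg hx hS hxS ih hno hF hFirr hSF _ T rfl hTS
    (hT.isConnected (k := k) hdim hL) (hT.dim_eq_one (k := k) hdim hL) hyT (hT.h0_le_genus (k := k) hdim hL)

end Groth.Agent.CliffCurveLib
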