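import Groth.Agent.CliffCurveLib.Sections

/-!
# Adjoining a minimal subset
-/

set_option autoImplicit false
set_option backward.isDefEq.respectTransparency false
set_option backward.isDefEq.respectTransparency.types false
set_option linter.style.haveILetI false

universe u

open CategoryTheory CategoryTheory.Limits AlgebraicGeometry TopologicalSpace Opposite
open Groth.Agent.PullbackMod Groth.Agent.DCohLib Groth.Agent.CurveLib Groth.Agent.H1ZeroLib
open scoped TensorProduct

noncomputable section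

namespace Groth.Agent.CliffCurveLib

variable {X : Scheme.{u}} {k : Type u} [Field k] [X.Over (Spec (CommRingCat.of k))]
  [IsProper (X ↘ Spec (CommRingCat.of k))] (hdim : topologicalKrullDim X ≤ 1)

variable {L : X.Modules} {U Y : Closeds X}

include k hdim in
/-- Genus is superadditive along a finite intersection. -/
theorem gS_add_le (hd : topologicalKrullDim ((U : Set X) ∩ Y : Set X) ≤ 0) :
    gS k U + gS k Y ≤ gS k (U ⊔ Y) := by
  haveI := EulerIneqLib.isNoetherian_proper (X := X) k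
  let qU := qmap (vI_mono (le_sup_left : U ≤ U ⊔ Y))
  let qY := qmap (vI_mono (le_sup_right : Y ≤ U ⊔ Y))
  haveI := EulerIneqLib.finite_HH (k := k) (IntLib.isCoh_quotMod (vI (U ⊔ Y))) 1
  haveI := EulerIneqLib.finite_HH (k := k) (IntLib.isCoh_quotMod (vI U)) 1
  haveI := EulerIneqLib.finite_HH (k := k) (IntLib.isCoh_quotMod (vI Y)) 1
  have hK : Function.Surjective (hMap (k := k) (kernel.ι qU ≫ qY) 1) := by
    refine hMap_one_surjective (k := k) hdim _ (C := (U : Set X) ∩ Y) (U.isClosed.inter Y.isClosed) hd fun y hy z => ?_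
    obtain ⟨r, rfl⟩ := qv_surjective (vI Y) y z
    by_cases hyY : y ∈ Y
    · have hyU : y ∉ U := fun h => hy ⟨h, hyY⟩
      obtain ⟨w, hw⟩ := HilbObsLib.stalk_kernel_ι_exists qU y (x := qv (vI (U ⊔ Y)) y r) (by
        rw [stalk_qmap, qv_eq_zero_iff, stalkIdeal_vI_top hyU]; trivial)
      exact ⟨w, by rw [stalkLin_comp, LinearMap.comp_apply, hw, stalk_qmap]⟩
    · exact ⟨0, by rw [map_zero]; exact ((qv_eq_zero_iff _ y r).2 (by rw [stalkIdeal_vI_top hyY]; trivial)).symm⟩
  have hU : Function.Surjective (hMap (k := k) qU 1) :=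
    hMap_one_surjective (k := k) hdim qU isClosed_empty
      (topologicalKrullDim_zero_of_discreteTopology (∅ : Set X)) fun y _ => surjective_qmap _ y
  have hsurj : Function.Surjective ((hMap (k := k) qU 1).prod (hMap (k := k) qY 1)) := by
    rintro ⟨a, b⟩
    obtain ⟨c, rfl⟩ := hU a
    obtain ⟨v, hv⟩ := hK (b - hMap (k := k) qY 1 c)
    refine ⟨c + hMap (k := k) (kernel.ι qU) 1 v, Prod.ext ?_ ?_⟩
    · show hMap (k := k) qU 1 _ = hMap (k := k) qU 1 c
      rw [map_add, add_eq_left]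
      have h1 : hMap (k := k) (kerSeq qU).f 1 v ∈ LinearMap.ker (hMap (k := k) (kerSeq qU).g 1) := by
        rw [← range_hMap_f (kerSeq_shortExact qU (surjective_qmap _))]
        exact ⟨v, rfl⟩
      exact h1
    · show hMap (k := k) qY 1 _ = b
      rw [map_add]
      have h2 : hMap (k := k) qY 1 (hMap (k := k) (kernel.ι qU) 1 v) = hMap (k := k) (kernel.ι qU ≫ qY) 1 v := by
        show Sheaf.H.map _ 1 (Sheaf.H.map _ 1 v) = Sheaf.H.map _ 1 v
        rw [← Sheaf.H.map_comp_apply, ← Functor.map_comp]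
      rw [h2, hv, add_sub_cancel]
  have h := LinearMap.finrank_le_finrank_of_surjective hsurj
  rw [Module.finrank_prod] at h
  exact h

include k in
/-- Sections vanishing on `B` along a union. -/
theorem h0_NS_sup_le (hL : PicF.IsInvertible L) (B : X.IdealSheafData) :
    Module.finrank k (Coh.HH X (NS (U ⊔ Y) B L) 0) ≤
      Module.finrank k (Coh.HH X (NS U B L) 0) + Module.finrank k (Coh.HH X (NS Y (vI U) L) 0) := by
  haveI := EulerIneqLib.isNoetherian_proper (X := X) k
  let π := nsMap hL (le_sup_left : U ≤ U ⊔ Y) B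
  let ι := kernel.ι (qmapL (le_sup_left : vI (U ⊔ Y) ≤ vI (U ⊔ Y) ⊔ B) L)
  let ψ : kernel π ⟶ LJ (vI Y) L := kernel.ι π ≫ ι ≫ qmapL (vI_mono (le_sup_right : Y ≤ U ⊔ Y)) L
  have hcoef : ∀ (y : X) (e : L.presheaf.stalk y), Function.Bijective (fun r : X.presheaf.stalk y => r • e) →
      ∀ w, ∃ r ∈ IntMult.stalkIdeal (vI U) y, stalkLin (kernel.ι π ≫ ι) y w = tq (vI (U ⊔ Y)) y e r ∧
        stalkLin ψ y w = tq (vI Y) y e r := fun y e he w => by
    obtain ⟨r, -, hr⟩ := exists_coef he (stalkLin (kernel.ι π) y w)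
    have h1 : stalkLin (kernel.ι π ≫ ι) y w = tq (vI (U ⊔ Y)) y e r := by
      rw [stalkLin_comp, LinearMap.comp_apply, hr]
    refine ⟨r, (tq_eq_zero_iff he _ r).1 ?_, h1, ?_⟩
    · rw [← stalk_qmapL (vI_mono (le_sup_left : U ≤ U ⊔ Y)), ← hr, ← LinearMap.comp_apply, ← stalkLin_comp,
        ← nsMap_ι hL (le_sup_left : U ≤ U ⊔ Y) B, stalkLin_comp, LinearMap.comp_apply]
      show stalkLin _ y (stalkLin π y (stalkLin (kernel.ι π) y w)) = 0
      rw [← LinearMap.comp_apply (stalkLin π y), ← stalkLin_comp, kernel.condition, DevLib.stalkLin_zero,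
        LinearMap.zero_apply, map_zero]
    · show stalkLin (kernel.ι π ≫ ι ≫ _) y w = _
      rw [← Category.assoc, stalkLin_comp, LinearMap.comp_apply, h1, stalk_qmapL]
  let φ : kernel π ⟶ NS Y (vI U) L := kernel.lift _ ψ (hom_ext_stalk fun y => LinearMap.ext fun w => by
    obtain ⟨e, he⟩ := ParaFLib.exists_stalk_gen hL y
    obtain ⟨r, hr, -, hψ⟩ := hcoef y e he w
    rw [stalkLin_comp, LinearMap.comp_apply, hψ, stalk_qmapL, DevLib.stalkLin_zero, LinearMap.zero_apply,
      tq_eq_zero_iff he, stalkIdeal_sup]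
    exact Submodule.mem_sup_right hr)
  haveI : Mono φ := (mono_iff_stalk φ).2 fun y => (injective_iff_map_eq_zero _).2 fun w hw => by
    obtain ⟨e, he⟩ := ParaFLib.exists_stalk_gen hL y
    obtain ⟨r, hr, hι, hψ⟩ := hcoef y e he w
    have h0 : stalkLin ψ y w = 0 := by
      rw [← kernel.lift_ι (qmapL (le_sup_left : vI Y ≤ vI Y ⊔ vI U) L) ψ, stalkLin_comp, LinearMap.comp_apply]
      show stalkLin _ y (stalkLin φ y w) = 0
      rw [hw, map_zero]
    rw [hψ, tq_eq_zero_iff he] at h0
    refine (mono_iff_stalk (kernel.ι π ≫ ι)).1 inferInstance y ?_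
    rw [hι, map_zero, tq_eq_zero_iff he]
    have hI : vI (U ⊔ Y) = vI U ⊓ vI Y := Scheme.IdealSheafData.vanishingIdeal_sup U Y
    rw [hI, stalkIdeal_inf]
    exact ⟨hr, h0⟩
  refine (h0_le_add_kernel (k := k) π (surjective_nsMap hL _ B) (isCoh_NS hL _ B) (isCoh_NS hL _ B)).trans ?_
  have := h0_le_of_mono (k := k) φ (isCoh_NS hL Y (vI U))
  omega

end Groth.Agent.CliffCurveLib
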